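/-
The lattice of the Rudvalis group: integrality of the Hermitian product and evenness of norms.
-/
import Cfsg.Agent.Lib.RuLat.Data

set_option autoImplicit false
set_option maxRecDepth 100000

namespace Cfsg.Agent.Lib.RuLat

open Cfsg.Spor Zsqrtd

/-- Decoding of coordinates. -/
def dc (e : ℕ) : GaussianInt := ⟨((e % 8 : ℕ) : ℤ) - 3, ((e / 8 : ℕ) : ℤ) - 3⟩

/-- A vector from a list. -/
def gv (l : List ℕ) : RuVec := fun p => dc (l.getD (4 * p.1.1 + p.2.1) 27)

/-- The prime above two. -/
def pI : GaussianInt := ⟨1, 1⟩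

/-- Powers of the prime above two. -/
def pw : ℕ → GaussianInt
  | 0 => 1
  | k + 1 => pI * pw k

/-- Scaling by a power of the prime. -/
def sc (k : ℕ) (y : RuVec) : RuVec := fun p => pw k * y p

/-- The generators modulo four. -/
def bv (j : ℕ) : RuVec := sc (CL.getD j (0, [])).1 (gv (CL.getD j (0, [])).2)

/-- The Hermitian product. -/
def ip (x y : RuVec) : GaussianInt := ∑ p, x p * star (y p)

/-- Divisibility by four. -/
def D4 (z : GaussianInt) : Prop := (4 : ℤ) ∣ z.re ∧ (4 : ℤ) ∣ z.im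

/-- Divisibility by four, as a test. -/
def D4B (z : GaussianInt) : Bool := decide (z.re % 4 = 0) && decide (z.im % 4 = 0)

lemma D4B_iff (z : GaussianInt) : D4B z = true ↔ D4 z := by
  unfold D4B D4
  simp only [Bool.and_eq_true, decide_eq_true_eq]
  constructor
  · rintro ⟨h1, h2⟩
    constructor <;> omega
  · rintro ⟨h1, h2⟩
    constructor <;> omega

lemma D4_zero : D4 0 := ⟨by simp, by simp⟩

lemma D4_add {a b : GaussianInt} (h1 : D4 a) (h2 : D4 b) : D4 (a + b) :=
  ⟨by rw [re_add]; exact dvd_add h1.1 h2.1, by rw [im_add]; exact dvd_add h1.2 h2.2⟩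

lemma D4_neg {a : GaussianInt} (h : D4 a) : D4 (-a) :=
  ⟨by rw [re_neg]; exact (dvd_neg).2 h.1, by rw [im_neg]; exact (dvd_neg).2 h.2⟩

lemma D4_neg_iff {a : GaussianInt} : D4 (-a) ↔ D4 a :=
  ⟨fun h => by simpa using D4_neg h, D4_neg⟩

lemma D4_mul {a b : GaussianInt} (h : D4 b) : D4 (a * b) := by
  constructor
  · rw [re_mul]
    exact dvd_add (dvd_mul_of_dvd_right h.1 _) (dvd_mul_of_dvd_right h.2 _)
  · rw [im_mul]
    exact dvd_add (dvd_mul_of_dvd_right h.2 _) (dvd_mul_of_dvd_right h.1 _)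

lemma D4_star {a : GaussianInt} (h : D4 a) : D4 (star a) :=
  ⟨by rw [re_star]; exact h.1, by rw [im_star]; exact (dvd_neg).2 h.2⟩

lemma D4_sum {ι : Type*} (s : Finset ι) (f : ι → GaussianInt) (h : ∀ i ∈ s, D4 (f i)) : D4 (∑ i ∈ s, f i) := by
  classical
  induction s using Finset.induction_on with
  | empty => simpa using D4_zero
  | insert a s ha ih =>
    rw [Finset.sum_insert ha]
    exact D4_add (h a (Finset.mem_insert_self ..)) (ih fun i hi => h i (Finset.mem_insert_of_mem hi))

lemma re_sum {ι : Type*} (s : Finset ι) (f : ι → GaussianInt) : (∑ i ∈ s, f i).re = ∑ i ∈ s, (f i).re := by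
  classical
  induction s using Finset.induction_on with
  | empty => simp
  | insert a s ha ih => rw [Finset.sum_insert ha, Finset.sum_insert ha, re_add, ih]

lemma im_sum {ι : Type*} (s : Finset ι) (f : ι → GaussianInt) : (∑ i ∈ s, f i).im = ∑ i ∈ s, (f i).im := by
  classical
  induction s using Finset.induction_on with
  | empty => simp
  | insert a s ha ih => rw [Finset.sum_insert ha, Finset.sum_insert ha, im_add, ih]

/-- All positions. -/
def Pos : List RuIdx := (List.finRange 7).flatMap fun n => (List.finRange 4).map fun t => (n, t)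

lemma mem_Pos (p : RuIdx) : p ∈ Pos := by
  simp [Pos]

lemma sum_Pos {M : Type*} [AddCommMonoid M] (f : RuIdx → M) : (Pos.map f).sum = ∑ p, f p := by
  have hnd : Pos.Nodup := by decide
  have e : Pos.toFinset = Finset.univ := by
    ext p
    simp [mem_Pos]
  rw [← e, List.sum_toFinset _ hnd]

/-- The Hermitian product, on a list. -/
def ipB (x y : RuVec) : GaussianInt := (Pos.map fun p => x p * star (y p)).sum

lemma ipB_eq (x y : RuVec) : ipB x y = ip x y := sum_Pos _

/-! ### Bilinearity -/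

lemma ip_add_right (x y z : RuVec) : ip x (y + z) = ip x y + ip x z := by
  unfold ip
  rw [← Finset.sum_add_distrib]
  apply Finset.sum_congr rfl
  intro p _
  simp only [Pi.add_apply, star_add]
  ring

lemma ip_add_left (x y z : RuVec) : ip (x + y) z = ip x z + ip y z := by
  unfold ip
  rw [← Finset.sum_add_distrib]
  apply Finset.sum_congr rfl
  intro p _
  simp only [Pi.add_apply]
  ring

lemma ip_zero_right (x : RuVec) : ip x 0 = 0 := by
  simp [ip]

/-- The sum of generators. -/
def sumJ (J : List ℕ) (p : RuIdx) : GaussianInt := (J.map fun j => bv j p).sum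

/-- Congruence modulo four. -/
def cg4 (a b : GaussianInt) : Bool := D4B (a - b)

/-- The test for an expression by generators. -/
def certB (y : RuVec) (J : List ℕ) : Bool := J.all (fun j => Nat.blt j 56) && Pos.all fun p => cg4 (y p) (sumJ J p)

/-- The dual lattice. -/
def Ld : AddSubgroup RuVec where
  carrier := {x | ∀ j < 56, D4 (ip x (bv j))}
  zero_mem' := by
    intro j _
    have : ip 0 (bv j) = 0 := by simp [ip]
    rw [this]
    exact D4_zero
  add_mem' := by
    intro a b ha hb j hj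
    rw [ip_add_left]
    exact D4_add (ha j hj) (hb j hj)
  neg_mem' := by
    intro a ha j hj
    have : ip (-a) (bv j) = - ip a (bv j) := by
      unfold ip
      rw [← Finset.sum_neg_distrib]
      apply Finset.sum_congr rfl
      intro p _
      simp
    rw [this]
    exact D4_neg (ha j hj)

lemma blt_lt {a b : ℕ} (h : Nat.blt a b = true) : a < b := Nat.le_of_ble_eq_true h

lemma D4_ip_sumJ {x : RuVec} (hx : x ∈ Ld) (J : List ℕ) (hJ : ∀ j ∈ J, j < 56) : D4 (ip x (sumJ J)) := by
  induction J with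
  | nil =>
    have : sumJ [] = 0 := rfl
    rw [this, ip_zero_right]
    exact D4_zero
  | cons j J ih =>
    have : sumJ (j :: J) = bv j + sumJ J := by
      funext p
      simp [sumJ]
    rw [this, ip_add_right]
    exact D4_add (hx j (hJ j (List.mem_cons_self ..))) (ih fun i hi => hJ i (List.mem_cons_of_mem _ hi))

/-- An expression by generators gives a dual vector. -/
theorem cert_dual {y : RuVec} {J : List ℕ} (h : certB y J = true) {x : RuVec} (hx : x ∈ Ld) : D4 (ip x y) := by
  simp only [certB, Bool.and_eq_true, List.all_eq_true] at h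
  obtain ⟨h1, h2⟩ := h
  have e : y = sumJ J + (y - sumJ J) := by abel
  rw [e, ip_add_right]
  refine D4_add (D4_ip_sumJ hx J fun j hj => blt_lt (h1 j hj)) ?_
  apply D4_sum
  intro p _
  apply D4_mul
  apply D4_star
  exact (D4B_iff _).1 (h2 p (mem_Pos p))

/-! ### Adjoints of the maps -/

lemma Rj0 (v : RuVec) (n : Fin 7) : ruRj v (n, 0) = gI * v (n, 1) := rfl
lemma Rj1 (v : RuVec) (n : Fin 7) : ruRj v (n, 1) = gI * v (n, 0) := rfl
lemma Rj2 (v : RuVec) (n : Fin 7) : ruRj v (n, 2) = v (n, 3) := rfl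
lemma Rj3 (v : RuVec) (n : Fin 7) : ruRj v (n, 3) = - v (n, 2) := rfl
lemma Rk0 (v : RuVec) (n : Fin 7) : ruRk v (n, 0) = gI * v (n, 2) := rfl
lemma Rk1 (v : RuVec) (n : Fin 7) : ruRk v (n, 1) = - v (n, 3) := rfl
lemma Rk2 (v : RuVec) (n : Fin 7) : ruRk v (n, 2) = gI * v (n, 0) := rfl
lemma Rk3 (v : RuVec) (n : Fin 7) : ruRk v (n, 3) = v (n, 1) := rfl

lemma star_gI : star gI = - gI := by
  apply Zsqrtd.ext <;> simp [gI]

lemma norm_gI : gI.norm = 1 := by
  simp [gI, norm_def]

lemma ip_Rj (x y : RuVec) : ip (ruRj x) y = - ip x (ruRj y) := by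
  unfold ip
  rw [Fintype.sum_prod_type, Fintype.sum_prod_type, ← Finset.sum_neg_distrib]
  apply Finset.sum_congr rfl
  intro n _
  simp only [Fin.sum_univ_four, Rj0, Rj1, Rj2, Rj3, star_mul', star_gI, star_neg]
  ring

lemma ip_Rk (x y : RuVec) : ip (ruRk x) y = - ip x (ruRk y) := by
  unfold ip
  rw [Fintype.sum_prod_type, Fintype.sum_prod_type, ← Finset.sum_neg_distrib]
  apply Finset.sum_congr rfl
  intro n _
  simp only [Fin.sum_univ_four, Rk0, Rk1, Rk2, Rk3, star_mul', star_gI, star_neg]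
  ring

lemma ip_Sign (x y : RuVec) : ip (ruSign x) y = ip x (ruSign y) := by
  unfold ip
  apply Finset.sum_congr rfl
  intro p _
  unfold ruSign
  split_ifs <;> simp

/-- The inverse of the shift. -/
def Shi (v : RuVec) : RuVec := fun p => v (p.1 - 1, p.2)

lemma ip_Shift (x y : RuVec) : ip (ruShift x) y = ip x (Shi y) := by
  unfold ip
  rw [Fintype.sum_prod_type, Fintype.sum_prod_type]
  apply Fintype.sum_equiv (Equiv.addRight (1 : Fin 7))
  intro n
  apply Finset.sum_congr rfl
  intro t _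
  simp [ruShift, Shi]

lemma ip_gI (x y : RuVec) : ip (gI • x) y = gI * ip x y := by
  unfold ip
  rw [Finset.mul_sum]
  apply Finset.sum_congr rfl
  intro p _
  simp only [Pi.smul_apply, smul_eq_mul]
  ring

lemma ip_right_gI (x y : RuVec) : ip x (gI • y) = star gI * ip x y := by
  unfold ip
  rw [Finset.mul_sum]
  apply Finset.sum_congr rfl
  intro p _
  simp only [Pi.smul_apply, smul_eq_mul, star_mul']
  ring

/-! ### The lattice and the dual -/

theorem chkRj : (List.range 56).all (fun j => certB (ruRj (bv j)) (JR.getD j [])) = true := by decide +kernel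
theorem chkRk : (List.range 56).all (fun j => certB (ruRk (bv j)) (JK.getD j [])) = true := by decide +kernel
theorem chkSn : (List.range 56).all (fun j => certB (ruSign (bv j)) (JS.getD j [])) = true := by decide +kernel
theorem chkSh : (List.range 56).all (fun j => certB (Shi (bv j)) (JH.getD j [])) = true := by decide +kernel
theorem chkTb : ruTable.all (fun v => (List.range 56).all fun j => D4B (ipB v (bv j))) = true := by decide +kernel
theorem chkTc : ruTable.all (fun v => JT.any fun J => certB v J) = true := by decide +kernel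

lemma range_spec {f : ℕ → Bool} (h : (List.range 56).all f = true) {j : ℕ} (hj : j < 56) : f j = true :=
  List.all_eq_true.1 h j (List.mem_range.2 hj)

theorem Ld_closed : Ld ∈ ruClosed := by
  refine ⟨fun v hv j hj => ?_, fun v hv => ⟨fun j hj => ?_, fun j hj => ?_, fun j hj => ?_, fun j hj => ?_, fun j hj => ?_⟩⟩
  · have h := range_spec (List.all_eq_true.1 chkTb v hv) hj
    rw [D4B_iff, ipB_eq] at h
    exact h
  · rw [ip_gI]
    exact D4_mul (hv j hj)
  · rw [ip_Rj]
    exact D4_neg (cert_dual (range_spec chkRj hj) hv)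
  · rw [ip_Rk]
    exact D4_neg (cert_dual (range_spec chkRk hj) hv)
  · rw [ip_Sign]
    exact cert_dual (range_spec chkSn hj) hv
  · rw [ip_Shift]
    exact cert_dual (range_spec chkSh hj) hv

theorem L_le_Ld : ruLattice ≤ Ld := sInf_le Ld_closed

lemma L_maps {x : RuVec} (hx : x ∈ ruLattice) :
    gI • x ∈ ruLattice ∧ ruRj x ∈ ruLattice ∧ ruRk x ∈ ruLattice ∧ ruSign x ∈ ruLattice ∧ ruShift x ∈ ruLattice := by
  rw [ruLattice, AddSubgroup.mem_sInf] at hx
  refine ⟨?_, ?_, ?_, ?_, ?_⟩ <;> rw [ruLattice, AddSubgroup.mem_sInf] <;> intro L hL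
  · exact (hL.2 x (hx L hL)).1
  · exact (hL.2 x (hx L hL)).2.1
  · exact (hL.2 x (hx L hL)).2.2.1
  · exact (hL.2 x (hx L hL)).2.2.2.1
  · exact (hL.2 x (hx L hL)).2.2.2.2

lemma L_table {v : RuVec} (hv : v ∈ ruTable) : v ∈ ruLattice := by
  rw [ruLattice, AddSubgroup.mem_sInf]
  intro L hL
  exact hL.1 v hv

lemma Shi_eq (x : RuVec) : Shi x = ruShift (ruShift (ruShift (ruShift (ruShift (ruShift x))))) := by
  funext p
  show x (p.1 - 1, p.2) = x (p.1 + 1 + 1 + 1 + 1 + 1 + 1, p.2)
  have h : ∀ n : Fin 7, n - 1 = n + 1 + 1 + 1 + 1 + 1 + 1 := by decide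
  rw [h]

lemma L_Shi {x : RuVec} (hx : x ∈ ruLattice) : Shi x ∈ ruLattice := by
  rw [Shi_eq]
  exact (L_maps (L_maps (L_maps (L_maps (L_maps (L_maps hx).2.2.2.2).2.2.2.2).2.2.2.2).2.2.2.2).2.2.2.2).2.2.2.2

lemma ip_right_Shift (x y : RuVec) : ip x (ruShift y) = ip (Shi x) y := by
  unfold ip
  rw [Fintype.sum_prod_type, Fintype.sum_prod_type]
  apply Fintype.sum_equiv (Equiv.addRight (1 : Fin 7))
  intro n
  apply Finset.sum_congr rfl
  intro t _
  simp [ruShift, Shi]

/-- The vectors with integral products with the lattice. -/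
def Le : AddSubgroup RuVec where
  carrier := {y | ∀ x ∈ ruLattice, D4 (ip x y)}
  zero_mem' := by
    intro x _
    rw [ip_zero_right]
    exact D4_zero
  add_mem' := by
    intro a b ha hb x hx
    rw [ip_add_right]
    exact D4_add (ha x hx) (hb x hx)
  neg_mem' := by
    intro a ha x hx
    have : ip x (-a) = - ip x a := by
      unfold ip
      rw [← Finset.sum_neg_distrib]
      apply Finset.sum_congr rfl
      intro p _
      simp
    rw [this]
    exact D4_neg (ha x hx)

theorem Le_closed : Le ∈ ruClosed := by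
  refine ⟨fun v hv x hx => ?_, fun v hv => ⟨fun x hx => ?_, fun x hx => ?_, fun x hx => ?_, fun x hx => ?_, fun x hx => ?_⟩⟩
  · obtain ⟨J, _, hJ⟩ := List.any_eq_true.1 (List.all_eq_true.1 chkTc v hv)
    exact cert_dual hJ (L_le_Ld hx)
  · rw [ip_right_gI]
    exact D4_mul (hv x hx)
  · have h := hv _ (L_maps hx).2.1
    rw [ip_Rj] at h
    exact D4_neg_iff.1 h
  · have h := hv _ (L_maps hx).2.2.1
    rw [ip_Rk] at h
    exact D4_neg_iff.1 h
  · have h := hv _ (L_maps hx).2.2.2.1
    rw [ip_Sign] at h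
    exact h
  · rw [ip_right_Shift]
    exact hv _ (L_Shi hx)

/-- Products of lattice vectors are divisible by four. -/
theorem ip_int {x y : RuVec} (hx : x ∈ ruLattice) (hy : y ∈ ruLattice) : D4 (ip x y) :=
  (show ruLattice ≤ Le from sInf_le Le_closed) hy x hx

/-! ### Norms -/

lemma norm_eq (z : GaussianInt) : z.norm = z.re * z.re + z.im * z.im := by
  rw [norm_def]
  ring

lemma norm_add_eq (a b : GaussianInt) : (a + b).norm = a.norm + b.norm + 2 * (a * star b).re := by
  simp only [norm_eq, re_add, im_add, re_mul, re_star, im_star]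
  ring

lemma ruNorm_add (x y : RuVec) : ruNorm (x + y) = ruNorm x + ruNorm y + 2 * (ip x y).re := by
  unfold ruNorm ip
  rw [re_sum, Finset.mul_sum, ← Finset.sum_add_distrib, ← Finset.sum_add_distrib]
  apply Finset.sum_congr rfl
  intro p _
  exact norm_add_eq _ _

lemma ruNorm_neg (x : RuVec) : ruNorm (-x) = ruNorm x := by
  unfold ruNorm
  apply Finset.sum_congr rfl
  intro p _
  exact norm_neg _

lemma ruNorm_gI (x : RuVec) : ruNorm (gI • x) = ruNorm x := by
  unfold ruNorm
  apply Finset.sum_congr rfl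
  intro p _
  simp only [Pi.smul_apply, smul_eq_mul, norm_mul, norm_gI, one_mul]

lemma ruNorm_Rj (x : RuVec) : ruNorm (ruRj x) = ruNorm x := by
  unfold ruNorm
  rw [Fintype.sum_prod_type, Fintype.sum_prod_type]
  apply Finset.sum_congr rfl
  intro n _
  simp only [Fin.sum_univ_four, Rj0, Rj1, Rj2, Rj3, norm_mul, norm_gI, one_mul, norm_neg]
  ring

lemma ruNorm_Rk (x : RuVec) : ruNorm (ruRk x) = ruNorm x := by
  unfold ruNorm
  rw [Fintype.sum_prod_type, Fintype.sum_prod_type]
  apply Finset.sum_congr rfl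
  intro n _
  simp only [Fin.sum_univ_four, Rk0, Rk1, Rk2, Rk3, norm_mul, norm_gI, one_mul, norm_neg]
  ring

lemma ruNorm_Sign (x : RuVec) : ruNorm (ruSign x) = ruNorm x := by
  unfold ruNorm
  apply Finset.sum_congr rfl
  intro p _
  unfold ruSign
  split_ifs
  · exact norm_neg _
  · rfl

lemma ruNorm_Shift (x : RuVec) : ruNorm (ruShift x) = ruNorm x := by
  unfold ruNorm
  rw [Fintype.sum_prod_type, Fintype.sum_prod_type]
  apply Fintype.sum_equiv (Equiv.addRight (1 : Fin 7))
  intro n
  rfl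

/-- The norm on a list. -/
def normB (v : RuVec) : ℤ := (Pos.map fun p => (v p).norm).sum

theorem chkNm : ruTable.all (fun v => decide (normB v = 16)) = true := by decide +kernel

lemma table_norm {v : RuVec} (hv : v ∈ ruTable) : ruNorm v = 16 := by
  have h := List.all_eq_true.1 chkNm v hv
  rw [decide_eq_true_eq] at h
  rw [← h]
  exact (sum_Pos _).symm

/-- The even part of the lattice. -/
def Lev : AddSubgroup RuVec where
  carrier := {x | x ∈ ruLattice ∧ (8 : ℤ) ∣ ruNorm x}
  zero_mem' := ⟨zero_mem _, by simp [ruNorm]⟩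
  add_mem' := by
    rintro a b ⟨ha, ha'⟩ ⟨hb, hb'⟩
    refine ⟨add_mem ha hb, ?_⟩
    rw [ruNorm_add]
    obtain ⟨k, hk⟩ := (ip_int ha hb).1
    rw [hk]
    have e : (2 : ℤ) * (4 * k) = 8 * k := by ring
    rw [e]
    exact dvd_add (dvd_add ha' hb') (dvd_mul_right _ _)
  neg_mem' := by
    rintro a ⟨ha, ha'⟩
    exact ⟨neg_mem ha, by rw [ruNorm_neg]; exact ha'⟩

theorem Lev_closed : Lev ∈ ruClosed := by
  refine ⟨fun v hv => ⟨L_table hv, ?_⟩, fun v hv => ⟨⟨(L_maps hv.1).1, ?_⟩, ⟨(L_maps hv.1).2.1, ?_⟩, ⟨(L_maps hv.1).2.2.1, ?_⟩, ⟨(L_maps hv.1).2.2.2.1, ?_⟩, ⟨(L_maps hv.1).2.2.2.2, ?_⟩⟩⟩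
  · rw [table_norm hv]
    norm_num
  · rw [ruNorm_gI]
    exact hv.2
  · rw [ruNorm_Rj]
    exact hv.2
  · rw [ruNorm_Rk]
    exact hv.2
  · rw [ruNorm_Sign]
    exact hv.2
  · rw [ruNorm_Shift]
    exact hv.2

/-- Norms of lattice vectors are divisible by eight. -/
theorem norm_eight {x : RuVec} (hx : x ∈ ruLattice) : (8 : ℤ) ∣ ruNorm x :=
  ((show ruLattice ≤ Lev from sInf_le Lev_closed) hx).2

end Cfsg.Agent.Lib.RuLat
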