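/-
The lattice of the Rudvalis group has no vectors of norm eight: descent through the residue codes.
-/
import Cfsg.Agent.Lib.RuLat.Alg

set_option autoImplicit false
set_option maxRecDepth 100000

namespace Cfsg.Agent.Lib.RuLat

open Cfsg.Spor Zsqrtd

/-- The parity of a coordinate. -/
def bz (z : GaussianInt) : Bool := decide ((z.re + z.im) % 2 = 1)

/-- The index of a position. -/
def idx (p : RuIdx) : ℕ := 4 * p.1.1 + p.2.1

/-- The position of an index. -/
def ps (i : ℕ) : RuIdx := (⟨i / 4 % 7, Nat.mod_lt _ (by norm_num)⟩, ⟨i % 4, Nat.mod_lt _ (by norm_num)⟩)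

lemma idx_lt (p : RuIdx) : idx p < 28 := by
  unfold idx
  have h1 := p.1.2
  have h2 := p.2.2
  omega

lemma ps_idx (p : RuIdx) : ps (idx p) = p := by
  have h1 := p.1.2
  have h2 := p.2.2
  apply Prod.ext
  · apply Fin.ext
    show (4 * p.1.1 + p.2.1) / 4 % 7 = p.1.1
    omega
  · apply Fin.ext
    show (4 * p.1.1 + p.2.1) % 4 = p.2.1
    omega

lemma idx_ps {i : ℕ} (h : i < 28) : idx (ps i) = i := by
  show 4 * (i / 4 % 7) + i % 4 = i
  omega

lemma sum_ps {M : Type*} [AddCommMonoid M] (f : RuIdx → M) : ∑ i ∈ Finset.range 28, f (ps i) = ∑ p, f p := by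
  refine Finset.sum_nbij' ps idx (fun _ _ => Finset.mem_univ _) (fun p _ => Finset.mem_range.2 (idx_lt p)) (fun i hi => idx_ps (Finset.mem_range.1 hi))
    (fun p _ => ps_idx p) (fun _ _ => rfl)

/-- The residue of a vector. -/
def mkM (y : RuVec) : ℕ := Nat.ofBits (fun i : Fin 28 => bz (y (ps i.1)))

lemma mkM_bit (y : RuVec) {i : ℕ} (h : i < 28) : (mkM y).testBit i = bz (y (ps i)) :=
  Nat.testBit_ofBits_lt _ i h

lemma mkM_bit' (y : RuVec) (p : RuIdx) : (mkM y).testBit (idx p) = bz (y p) := by
  rw [mkM_bit y (idx_lt p), ps_idx]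

lemma mkM_lt (y : RuVec) : mkM y < 2 ^ 28 := Nat.ofBits_lt_two_pow _

/-- The number of bits on a list. -/
def smB (M : ℕ) (s : List ℕ) : ℕ := (s.map fun i => (M.testBit i).toNat).sum

/-- The weight. -/
def wtN (M : ℕ) : ℕ := smB M (List.range 28)

lemma smB_toFinset (M : ℕ) {s : List ℕ} (hs : s.Nodup) : smB M s = ∑ i ∈ s.toFinset, (M.testBit i).toNat :=
  (List.sum_toFinset _ hs).symm

lemma wtN_eq (M : ℕ) : wtN M = ∑ i ∈ Finset.range 28, (M.testBit i).toNat := by
  unfold wtN
  rw [smB_toFinset M List.nodup_range, List.toFinset_range]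

/-! ### The search in a code -/

/-- The parity checks ending at a position. -/
def okAt (chk : List (List ℕ)) (q m : ℕ) : Bool :=
  chk.all fun s => !(Nat.beq (s.headD 0) q) || Nat.beq (smB m s % 2) 0

/-- The search for words of small weight. -/
def dfs (chk : List (List ℕ)) (W : ℕ) (leaf : ℕ → Bool) : ℕ → ℕ → ℕ → ℕ → Bool
  | 0, _, m, _ => leaf m
  | f + 1, q, m, w =>
    (!(okAt chk q m) || dfs chk W leaf f (q + 1) m w) &&
      (!(Nat.blt w W && okAt chk q (m + 2 ^ q)) || dfs chk W leaf f (q + 1) (m + 2 ^ q) (w + 1))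

lemma smB_range_succ (M q : ℕ) : smB M (List.range (q + 1)) = smB M (List.range q) + (M.testBit q).toNat := by
  simp [smB, List.range_succ]

lemma smB_mono (M : ℕ) : Monotone fun q => smB M (List.range q) :=
  monotone_nat_of_le_succ fun q => by
    show smB M (List.range q) ≤ smB M (List.range (q + 1))
    rw [smB_range_succ]
    omega

lemma smB_congr {M M' : ℕ} {s : List ℕ} (h : ∀ i ∈ s, M.testBit i = M'.testBit i) : smB M s = smB M' s := by
  unfold smB
  congr 1
  apply List.map_congr_left
  intro i hi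
  rw [h i hi]

lemma mod_succ_bit (M q : ℕ) : M % 2 ^ (q + 1) = M % 2 ^ q + if M.testBit q then 2 ^ q else 0 := by
  rw [Nat.mod_pow_succ]
  congr 1
  rw [Nat.testBit_eq_decide_div_mod_eq]
  by_cases h : M / 2 ^ q % 2 = 1
  · simp [h]
  · have h0 : M / 2 ^ q % 2 = 0 := by omega
    simp [h0]

theorem dfs_sound {chk : List (List ℕ)} {W : ℕ} {leaf : ℕ → Bool} {M : ℕ} (hlt : M < 2 ^ 28)
    (hp : ∀ s ∈ chk, smB M s % 2 = 0) (htop : ∀ s ∈ chk, ∀ i ∈ s, i ≤ s.headD 0) (hw : wtN M ≤ W)
    (h : dfs chk W leaf 28 0 0 0 = true) : leaf M = true := by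
  have key : ∀ f q, q + f = 28 → dfs chk W leaf f q (M % 2 ^ q) (smB M (List.range q)) = true → leaf M = true := by
    intro f
    induction f with
    | zero =>
      intro q hq h1
      obtain rfl : q = 28 := by omega
      rw [Nat.mod_eq_of_lt hlt] at h1
      exact h1
    | succ f ih =>
      intro q hq h1
      have hok : okAt chk q (M % 2 ^ (q + 1)) = true := by
        unfold okAt
        rw [List.all_eq_true]
        intro s hs
        simp only [Bool.or_eq_true, Bool.not_eq_true']
        by_cases hq2 : s.headD 0 = q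
        · right
          have e : smB (M % 2 ^ (q + 1)) s = smB M s := by
            apply smB_congr
            intro i hi
            have hi2 : i < q + 1 := by
              have := htop s hs i hi
              omega
            rw [Nat.testBit_mod_two_pow]
            simp [hi2]
          rw [e, hp s hs]
          rfl
        · left
          cases hb : Nat.beq (s.headD 0) q with
          | false => rfl
          | true => exact absurd (Nat.eq_of_beq_eq_true hb) hq2
      rw [dfs] at h1
      simp only [Bool.and_eq_true, Bool.or_eq_true, Bool.not_eq_true'] at h1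
      obtain ⟨h2, h3⟩ := h1
      have e1 := mod_succ_bit M q
      have e2 := smB_range_succ M q
      cases hb : M.testBit q with
      | false =>
        rw [hb] at e1 e2
        simp only [Bool.false_eq_true, if_false, add_zero, Bool.toNat_false] at e1 e2
        rw [e1] at hok
        rcases h2 with h4 | h4
        · rw [hok] at h4
          exact absurd h4 (by decide)
        · refine ih (q + 1) (by omega) ?_
          rw [e1, e2]
          exact h4
      | true =>
        rw [hb] at e1 e2
        simp only [if_true, Bool.toNat_true] at e1 e2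
        rw [e1] at hok
        have hle : smB M (List.range (q + 1)) ≤ smB M (List.range 28) := smB_mono M (by omega)
        have hlt2 : smB M (List.range q) < W := by
          have : smB M (List.range 28) ≤ W := hw
          omega
        have hbl : Nat.blt (smB M (List.range q)) W = true := Nat.ble_eq_true_of_le hlt2
        rcases h3 with h4 | h4
        · simp only [hbl, hok, Bool.true_and] at h4
          exact absurd h4 (by decide)
        · refine ih (q + 1) (by omega) ?_
          rw [e1, e2]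
          exact h4
  refine key 28 0 rfl ?_
  have e0 : M % 2 ^ 0 = 0 := by
    rw [pow_zero]
    exact Nat.mod_one M
  rw [e0]
  exact h

/-! ### Parity of products -/

lemma par_term (a b : GaussianInt) : (2 : ℤ) ∣ ((a * star b).re + (a * star b).im) - (a.re + a.im) * (b.re + b.im) := by
  refine ⟨- a.re * b.im, ?_⟩
  simp only [re_mul, im_mul, re_star, im_star]
  ring

lemma pr_bit (z : GaussianInt) : (2 : ℤ) ∣ (z.re + z.im) - ((bz z).toNat : ℤ) := by
  unfold bz
  by_cases h : (z.re + z.im) % 2 = 1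
  · simp only [h, decide_true, Bool.toNat_true]
    omega
  · simp only [h, decide_false, Bool.toNat_false]
    omega

lemma par_term2 (a b : GaussianInt) : (2 : ℤ) ∣ ((a * star b).re + (a * star b).im) - (((bz a).toNat * (bz b).toNat : ℕ) : ℤ) := by
  have h1 := par_term a b
  have h2 := pr_bit a
  have h3 := pr_bit b
  have e : ((a * star b).re + (a * star b).im) - (((bz a).toNat * (bz b).toNat : ℕ) : ℤ) =
      (((a * star b).re + (a * star b).im) - (a.re + a.im) * (b.re + b.im)) +
        ((a.re + a.im) - ((bz a).toNat : ℤ)) * (b.re + b.im) + ((bz a).toNat : ℤ) * ((b.re + b.im) - ((bz b).toNat : ℤ)) := by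
    push_cast
    ring
  rw [e]
  exact dvd_add (dvd_add h1 (dvd_mul_of_dvd_left h2 _)) (dvd_mul_of_dvd_right h3 _)

/-- A parity check from a product. -/
theorem form_par {y c : RuVec} {s : List ℕ} (hnd : s.Nodup) (hs : ∀ i, i < 28 → (bz (c (ps i)) = true ↔ i ∈ s)) (hsr : ∀ i ∈ s, i < 28)
    (h : (2 : ℤ) ∣ (ip y c).re + (ip y c).im) : smB (mkM y) s % 2 = 0 := by
  have h1 : (2 : ℤ) ∣ ((ip y c).re + (ip y c).im) - ((∑ p, (bz (y p)).toNat * (bz (c p)).toNat : ℕ) : ℤ) := by
    unfold ip
    rw [re_sum, im_sum, ← Finset.sum_add_distrib]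
    push_cast
    rw [← Finset.sum_sub_distrib]
    apply Finset.dvd_sum
    intro p _
    have := par_term2 (y p) (c p)
    push_cast at this
    exact this
  have h2 : ∑ p, (bz (y p)).toNat * (bz (c p)).toNat = smB (mkM y) s := by
    rw [← sum_ps, smB_toFinset _ hnd]
    have e1 : ∀ i ∈ Finset.range 28, (bz (y (ps i))).toNat * (bz (c (ps i))).toNat =
        if i ∈ s.toFinset then ((mkM y).testBit i).toNat else 0 := by
      intro i hi
      have hi2 := Finset.mem_range.1 hi
      rw [mkM_bit y hi2]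
      by_cases hm : i ∈ s
      · have := (hs i hi2).2 hm
        simp [hm, this]
      · have h3 : bz (c (ps i)) = false := by
          cases hb : bz (c (ps i)) with
          | false => rfl
          | true => exact absurd ((hs i hi2).1 hb) hm
        simp [hm, h3]
    rw [Finset.sum_congr rfl e1, Finset.sum_ite_mem]
    apply Finset.sum_congr _ (fun _ _ => rfl)
    apply Finset.inter_eq_right.2
    intro i hi
    exact Finset.mem_range.2 (hsr i (List.mem_toFinset.1 hi))
  rw [h2] at h1
  have h3 := dvd_add h (dvd_sub_comm.1 h1)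
  omega

/-! ### The levels of the descent -/

/-- The support of a parity check. -/
def suppL (l : List ℕ) : List ℕ := ((List.range 28).filter fun i => bz (gv l (ps i))).reverse

lemma ip_sc (l k : ℕ) (y c : RuVec) : ip (sc l y) (sc k c) = pw l * star (pw k) * ip y c := by
  unfold ip
  rw [Finset.mul_sum]
  apply Finset.sum_congr rfl
  intro p _
  simp only [sc, star_mul']
  ring

theorem CL_length : CL.length = 56 := by decide +kernel

lemma K_dvd {l k : ℕ} (hk : l + k = 3) {W : GaussianInt} (h : D4 (pw l * star (pw k) * W)) : (2 : ℤ) ∣ W.re + W.im := by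
  have h1 := h.1
  rw [re_mul] at h1
  obtain ⟨a, b, e, ha, hb⟩ : ∃ a b : ℤ, pw l * star (pw k) = ⟨a, b⟩ ∧ (a = 2 ∨ a = -2) ∧ (b = 2 ∨ b = -2) := by
    have hl : l = 0 ∧ k = 3 ∨ l = 1 ∧ k = 2 ∨ l = 2 ∧ k = 1 ∨ l = 3 ∧ k = 0 := by omega
    rcases hl with ⟨rfl, rfl⟩ | ⟨rfl, rfl⟩ | ⟨rfl, rfl⟩ | ⟨rfl, rfl⟩
    · exact ⟨-2, -2, by decide, by simp, by simp⟩
    · exact ⟨2, -2, by decide, by simp, by simp⟩
    · exact ⟨2, 2, by decide, by simp, by simp⟩
    · exact ⟨-2, 2, by decide, by simp, by simp⟩
  rw [e] at h1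
  simp only at h1
  rcases ha with rfl | rfl <;> rcases hb with rfl | rfl <;> omega

/-- A level of the descent: the vector scaled is orthogonal to the generators. -/
def Qv (l : ℕ) (y : RuVec) : Prop := ∀ j < 56, D4 (ip (sc l y) (bv j))

theorem level_par {l k : ℕ} (hk : l + k = 3) {y : RuVec} (hQ : Qv l y) {S : List (List ℕ)}
    (hS : S = (CL.filter fun e => Nat.beq e.1 k).map fun e => suppL e.2) : ∀ s ∈ S, smB (mkM y) s % 2 = 0 := by
  subst hS
  intro s hs
  obtain ⟨e, he, rfl⟩ := List.mem_map.1 hs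
  obtain ⟨he1, he2⟩ := List.mem_filter.1 he
  have he3 : e.1 = k := Nat.eq_of_beq_eq_true he2
  obtain ⟨j, hj, ej⟩ := List.getElem_of_mem he1
  have hj2 : j < 56 := by
    rw [← CL_length]
    exact hj
  have h1 := hQ j hj2
  have e2 : bv j = sc k (gv e.2) := by
    unfold bv
    rw [List.getD_eq_getElem _ _ hj, ej, he3]
  rw [e2, ip_sc] at h1
  apply form_par (List.nodup_reverse.2 ((List.nodup_range).filter _)) _ _ (K_dvd hk h1)
  · intro i hi
    rw [List.mem_reverse, List.mem_filter, List.mem_range]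
    exact ⟨fun h => ⟨hi, h⟩, fun h => h.2⟩
  · intro i hi
    rw [List.mem_reverse, List.mem_filter, List.mem_range] at hi
    exact hi.1

lemma pw_one : pw 1 = pI := by
  simp [pw]

lemma norm_pI : pI.norm = 2 := by
  simp [pI, norm_def]

lemma half_exists {y : RuVec} (h : ∀ p, bz (y p) = false) : ∃ y', y = sc 1 y' ∧ ruNorm y = 2 * ruNorm y' := by
  let y' : RuVec := fun p => ⟨((y p).re + (y p).im) / 2, ((y p).im - (y p).re) / 2⟩
  have e : y = sc 1 y' := by
    funext p
    have hb := h p
    unfold bz at hb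
    simp only [decide_eq_false_iff_not] at hb
    show y p = pw 1 * y' p
    rw [pw_one]
    apply Zsqrtd.ext
    · simp only [re_mul, pI, y']
      omega
    · simp only [im_mul, pI, y']
      omega
  refine ⟨y', e, ?_⟩
  unfold ruNorm
  rw [Finset.mul_sum]
  apply Finset.sum_congr rfl
  intro p _
  have e2 : y p = pw 1 * y' p := congrFun e p
  rw [e2, pw_one, norm_mul, norm_pI]

lemma Qv_step {l : ℕ} {y y' : RuVec} (hQ : Qv l y) (e : y = sc 1 y') : Qv (l + 1) y' := by
  intro j hj
  have h := hQ j hj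
  have e2 : sc l y = sc (l + 1) y' := by
    funext p
    rw [e]
    show pw l * (pw 1 * y' p) = pw (l + 1) * y' p
    rw [pw_one]
    show _ = pI * pw l * y' p
    ring
  rw [← e2]
  exact h

lemma Qv_zero {x : RuVec} (hx : x ∈ ruLattice) : Qv 0 x := by
  intro j hj
  have e : sc 0 x = x := by
    funext p
    show 1 * x p = x p
    rw [one_mul]
  rw [e]
  exact L_le_Ld hx j hj

lemma bits_zero {y : RuVec} (h : mkM y = 0) (p : RuIdx) : bz (y p) = false := by
  rw [← mkM_bit', h]
  simp

lemma bit_le_norm (z : GaussianInt) : ((bz z).toNat : ℤ) ≤ z.norm := by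
  rw [norm_eq]
  by_cases h : bz z = true
  · have h2 : z.re ≠ 0 ∨ z.im ≠ 0 := by
      unfold bz at h
      rw [decide_eq_true_eq] at h
      omega
    rw [h]
    have h3 := mul_self_nonneg z.re
    have h4 := mul_self_nonneg z.im
    rcases h2 with h2 | h2
    · have h5 := mul_self_pos.2 h2
      simp only [Bool.toNat_true, Nat.cast_one]
      omega
    · have h5 := mul_self_pos.2 h2
      simp only [Bool.toNat_true, Nat.cast_one]
      omega
  · have h0 : bz z = false := by simpa using h
    rw [h0]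
    have h3 := mul_self_nonneg z.re
    have h4 := mul_self_nonneg z.im
    simp only [Bool.toNat_false, Nat.cast_zero]
    omega

lemma wtN_mkM (y : RuVec) : wtN (mkM y) = ∑ p, (bz (y p)).toNat := by
  rw [wtN_eq, ← sum_ps]
  apply Finset.sum_congr rfl
  intro i hi
  rw [mkM_bit y (Finset.mem_range.1 hi)]

lemma wt_le (y : RuVec) : (wtN (mkM y) : ℤ) ≤ ruNorm y := by
  rw [wtN_mkM]
  push_cast
  exact Finset.sum_le_sum fun p _ => bit_le_norm (y p)

lemma exact_norm {y : RuVec} (h : (wtN (mkM y) : ℤ) = ruNorm y) (p : RuIdx) : (y p).norm = ((bz (y p)).toNat : ℤ) := by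
  rw [wtN_mkM] at h
  push_cast at h
  unfold ruNorm at h
  have h2 : ∑ p, ((y p).norm - ((bz (y p)).toNat : ℤ)) = 0 := by
    rw [Finset.sum_sub_distrib, ← h]
    ring
  have h3 := (Finset.sum_eq_zero_iff_of_nonneg (fun p _ => sub_nonneg.2 (bit_le_norm (y p)))).1 h2 p (Finset.mem_univ _)
  omega

/-- The units. -/
def UG : List GaussianInt := [⟨1, 0⟩, ⟨-1, 0⟩, ⟨0, 1⟩, ⟨0, -1⟩]

/-- The units times the prime. -/
def UH : List GaussianInt := [⟨1, 1⟩, ⟨-1, -1⟩, ⟨-1, 1⟩, ⟨1, -1⟩]

lemma mem_UG {z : GaussianInt} (h : z.norm = 1) : z ∈ UG := by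
  rw [norm_eq] at h
  have h1 : z.re ≤ 1 := by nlinarith [mul_self_nonneg z.im, mul_self_nonneg (z.re - 1)]
  have h2 : -1 ≤ z.re := by nlinarith [mul_self_nonneg z.im, mul_self_nonneg (z.re + 1)]
  have h3 : z.im ≤ 1 := by nlinarith [mul_self_nonneg z.re, mul_self_nonneg (z.im - 1)]
  have h4 : -1 ≤ z.im := by nlinarith [mul_self_nonneg z.re, mul_self_nonneg (z.im + 1)]
  obtain ⟨a, b⟩ := z
  simp only at h h1 h2 h3 h4
  interval_cases a <;> interval_cases b <;> simp_all [UG] 

lemma mem_UH {z : GaussianInt} (h : z ∈ UG) : pw 1 * z ∈ UH := by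
  rw [pw_one]
  revert z
  decide

/-! ### Excluding full blocks -/

/-- The test that a list of forms excludes a word. -/
def killB (US : List GaussianInt) (W : ℕ) (e : ℕ × ℕ × List (List ℕ × List ℕ)) : Bool :=
  Nat.beq (wtN e.1) W && Nat.blt e.2.1 7 &&
  ((List.finRange 4).all fun t => e.1.testBit (idx (Fin.ofNat 7 e.2.1, t))) &&
  (e.2.2.all fun f => certB (gv f.1) f.2 &&
    Pos.all fun p => decide (p.1 = Fin.ofNat 7 e.2.1) || !(e.1.testBit (idx p)) || decide (gv f.1 p = 0)) &&
  (US.all fun a => US.all fun b => US.all fun c => US.all fun d => e.2.2.any fun f =>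
    !D4B (a * star (gv f.1 (Fin.ofNat 7 e.2.1, 0)) + b * star (gv f.1 (Fin.ofNat 7 e.2.1, 1)) +
      c * star (gv f.1 (Fin.ofNat 7 e.2.1, 2)) + d * star (gv f.1 (Fin.ofNat 7 e.2.1, 3))))

theorem kill {US : List GaussianInt} {W : ℕ} {e : ℕ × ℕ × List (List ℕ × List ℕ)} (hk : killB US W e = true) {x : RuVec} (hx : x ∈ ruLattice)
    (hz : ∀ p, e.1.testBit (idx p) = false → x p = 0) (hU : ∀ p, e.1.testBit (idx p) = true → x p ∈ US) : False := by
  unfold killB at hk
  simp only [Bool.and_eq_true, List.all_eq_true, Bool.or_eq_true, List.any_eq_true, Bool.not_eq_true', decide_eq_true_eq] at hk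
  obtain ⟨⟨⟨_, h1⟩, h2⟩, h3⟩ := hk
  set n : Fin 7 := Fin.ofNat 7 e.2.1 with hn
  have hB : ∀ t : Fin 4, x (n, t) ∈ US := fun t => hU _ (h1 t (List.mem_finRange t))
  obtain ⟨f, hf, hnd⟩ := h3 _ (hB 0) _ (hB 1) _ (hB 2) _ (hB 3)
  obtain ⟨hc, hoff⟩ := h2 f hf
  have hd := cert_dual hc (L_le_Ld hx)
  have e1 : ip x (gv f.1) = x (n, 0) * star (gv f.1 (n, 0)) + x (n, 1) * star (gv f.1 (n, 1)) + x (n, 2) * star (gv f.1 (n, 2)) + x (n, 3) * star (gv f.1 (n, 3)) := by
    unfold ip
    rw [Fintype.sum_prod_type, Finset.sum_eq_single n]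
    · rw [Fin.sum_univ_four]
    · intro m _ hm
      apply Finset.sum_eq_zero
      intro t _
      rcases hoff (m, t) (mem_Pos _) with (h4 | h4) | h4
      · exact absurd h4 hm
      · rw [hz _ h4, zero_mul]
      · rw [h4, star_zero, mul_zero]
    · intro h4
      exact absurd (Finset.mem_univ _) h4
  rw [e1] at hd
  rw [(D4B_iff _).2 hd] at hnd
  exact absurd hnd (by decide)

theorem chkK0 : K0.all (killB UG 8) = true := by decide +kernel
theorem chkK1 : K1.all (killB UH 4) = true := by decide +kernel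

/-- Leaves for the first level. -/
def leafK (K : List (ℕ × ℕ × List (List ℕ × List ℕ))) (m : ℕ) : Bool := Nat.beq m 0 || K.any fun e => Nat.beq m e.1

/-- Leaves for the other levels. -/
def leafZ (m : ℕ) : Bool := Nat.beq m 0

theorem S3_eq : S3 = (CL.filter fun e => Nat.beq e.1 3).map fun e => suppL e.2 := by decide +kernel
theorem S2_eq : S2 = (CL.filter fun e => Nat.beq e.1 2).map fun e => suppL e.2 := by decide +kernel
theorem S1_eq : S1 = (CL.filter fun e => Nat.beq e.1 1).map fun e => suppL e.2 := by decide +kernel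
theorem S0_eq : S0 = (CL.filter fun e => Nat.beq e.1 0).map fun e => suppL e.2 := by decide +kernel

theorem S3_top : ∀ s ∈ S3, ∀ i ∈ s, i ≤ s.headD 0 := by decide +kernel
theorem S2_top : ∀ s ∈ S2, ∀ i ∈ s, i ≤ s.headD 0 := by decide +kernel
theorem S1_top : ∀ s ∈ S1, ∀ i ∈ s, i ≤ s.headD 0 := by decide +kernel
theorem S0_top : ∀ s ∈ S0, ∀ i ∈ s, i ≤ s.headD 0 := by decide +kernel

theorem dfs3 : dfs S3 8 (leafK K0) 28 0 0 0 = true := by decide +kernel
theorem dfs2 : dfs S2 4 (leafK K1) 28 0 0 0 = true := by decide +kernel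
theorem dfs1 : dfs S1 2 leafZ 28 0 0 0 = true := by decide +kernel
theorem dfs0 : dfs S0 1 leafZ 28 0 0 0 = true := by decide +kernel

lemma wt_bound {y : RuVec} {W : ℕ} (h : ruNorm y = W) : wtN (mkM y) ≤ W := by
  have := wt_le y
  rw [h] at this
  exact_mod_cast this

/-- No vector of the lattice has norm eight. -/
theorem no_eight {x : RuVec} (hx : x ∈ ruLattice) : ruNorm x ≠ 8 := by
  intro h8
  have Q0 := Qv_zero hx
  -- the first level
  have l0 := dfs_sound (mkM_lt x) (level_par (l := 0) (k := 3) rfl Q0 S3_eq) S3_top (wt_bound (W := 8) h8) dfs3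
  simp only [leafK, Bool.or_eq_true, List.any_eq_true] at l0
  rcases l0 with l0 | ⟨e, he, l0⟩
  swap
  · have hm : mkM x = e.1 := Nat.eq_of_beq_eq_true l0
    have hk := List.all_eq_true.1 chkK0 e he
    have hw : wtN e.1 = 8 := by
      unfold killB at hk
      simp only [Bool.and_eq_true] at hk
      exact Nat.eq_of_beq_eq_true hk.1.1.1.1
    have hex := exact_norm (y := x) (by rw [hm, hw, h8]; rfl)
    refine kill hk hx (fun p hp => ?_) (fun p hp => ?_)
    · rw [← hm, mkM_bit'] at hp
      have := hex p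
      rw [hp] at this
      exact (norm_eq_zero_iff (by norm_num) _).1 (by simpa using this)
    · rw [← hm, mkM_bit'] at hp
      have := hex p
      rw [hp] at this
      exact mem_UG (by simpa using this)
  have hm0 : mkM x = 0 := Nat.eq_of_beq_eq_true l0
  -- the second level
  obtain ⟨y, ey, ny⟩ := half_exists (bits_zero hm0)
  have ny4 : ruNorm y = 4 := by omega
  have Q1 := Qv_step Q0 ey
  have l1 := dfs_sound (mkM_lt y) (level_par (l := 1) (k := 2) rfl Q1 S2_eq) S2_top (wt_bound (W := 4) ny4) dfs2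
  simp only [leafK, Bool.or_eq_true, List.any_eq_true] at l1
  rcases l1 with l1 | ⟨e, he, l1⟩
  swap
  · have hm : mkM y = e.1 := Nat.eq_of_beq_eq_true l1
    have hk := List.all_eq_true.1 chkK1 e he
    have hw : wtN e.1 = 4 := by
      unfold killB at hk
      simp only [Bool.and_eq_true] at hk
      exact Nat.eq_of_beq_eq_true hk.1.1.1.1
    have hex := exact_norm (y := y) (by rw [hm, hw, ny4]; rfl)
    refine kill hk hx (fun p hp => ?_) (fun p hp => ?_)
    · rw [← hm, mkM_bit'] at hp
      have := hex p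
      rw [hp] at this
      rw [ey]
      show pw 1 * y p = 0
      have hy0 : y p = 0 := (norm_eq_zero_iff (by norm_num) _).1 (by simpa using this)
      rw [hy0, mul_zero]
    · rw [← hm, mkM_bit'] at hp
      have := hex p
      rw [hp] at this
      rw [ey]
      exact mem_UH (mem_UG (by simpa using this))
  have hm1 : mkM y = 0 := Nat.eq_of_beq_eq_true l1
  -- the third level
  obtain ⟨z, ez, nz⟩ := half_exists (bits_zero hm1)
  have nz2 : ruNorm z = 2 := by omega
  have Q2 := Qv_step Q1 ez
  have l2 := dfs_sound (mkM_lt z) (level_par (l := 2) (k := 1) rfl Q2 S1_eq) S1_top (wt_bound (W := 2) nz2) dfs1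
  have hm2 : mkM z = 0 := Nat.eq_of_beq_eq_true l2
  -- the last level
  obtain ⟨t, et, nt⟩ := half_exists (bits_zero hm2)
  have nt1 : ruNorm t = 1 := by omega
  have Q3 := Qv_step Q2 et
  have l3 := dfs_sound (mkM_lt t) (level_par (l := 3) (k := 0) rfl Q3 S0_eq) S0_top (wt_bound (W := 1) nt1) dfs0
  have hm3 : mkM t = 0 := Nat.eq_of_beq_eq_true l3
  obtain ⟨_, _, nu⟩ := half_exists (bits_zero hm3)
  omega

lemma ruNorm_eq_zero {x : RuVec} (h : ruNorm x = 0) : x = 0 := by
  unfold ruNorm at h
  funext p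
  have h1 := (Finset.sum_eq_zero_iff_of_nonneg (fun p _ => norm_nonneg (by norm_num) (x p))).1 h p (Finset.mem_univ _)
  exact (norm_eq_zero_iff (by norm_num) _).1 h1

lemma ruNorm_nonneg (x : RuVec) : 0 ≤ ruNorm x :=
  Finset.sum_nonneg fun p _ => norm_nonneg (by norm_num) (x p)

/-- The main theorem on norms of the lattice. -/
theorem lattice_norms : (∀ x ∈ ruLattice, (8 : ℤ) ∣ ruNorm x) ∧ (∀ x ∈ ruLattice, ruNorm x ≠ 8) ∧
    (∀ x ∈ ruLattice, x ≠ 0 → 16 ≤ ruNorm x) ∧ ∃ x ∈ ruLattice, ruNorm x = 16 := by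
  refine ⟨fun x hx => norm_eight hx, fun x hx => no_eight hx, fun x hx hne => ?_, ?_⟩
  · have h1 := norm_eight hx
    have h2 := no_eight hx
    have h3 := ruNorm_nonneg x
    have h4 : ruNorm x ≠ 0 := fun h => hne (ruNorm_eq_zero h)
    omega
  · have hm : (ruTable.headD 0) ∈ ruTable := by
      unfold ruTable
      exact List.mem_cons_self ..
    exact ⟨_, L_table hm, table_norm hm⟩

end Cfsg.Agent.Lib.RuLat
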